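/-
Counting exponent vectors by their number of small entries.
-/
import Mathlib.Algebra.BigOperators.Fin
import Mathlib.Algebra.Order.BigOperators.Group.Finset
import Mathlib.Algebra.Ring.Parity
import Mathlib.Data.Fintype.Pi
import Mathlib.Data.Fintype.Powerset
import Mathlib.Data.Finset.Powerset
import Mathlib.Data.Fintype.BigOperators
import Mathlib.Data.Finset.Sort

set_option autoImplicit false

namespace ExpCountLib

open Finset

/-- Vectors with positive entries at most `m` and prescribed sum. -/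
def cnt (k m j : ℕ) : ℕ :=
  Fintype.card {e : Fin k → Fin (m + 1) // (∀ i, 1 ≤ (e i : ℕ)) ∧ ∑ i, (e i : ℕ) = j}

theorem cnt_eq_zero {k m : ℕ} (hk : 0 < k) : cnt k m 0 = 0 := by
  refine Fintype.card_eq_zero_iff.2 ⟨fun ⟨e, h1, h2⟩ => ?_⟩
  have h : (e ⟨0, hk⟩ : ℕ) ≤ ∑ i, (e i : ℕ) :=
    Finset.single_le_sum (f := fun i => (e i : ℕ)) (fun _ _ => Nat.zero_le _) (mem_univ _)
  have := h1 ⟨0, hk⟩
  omega

theorem fibre_card (m n s D : ℕ) (S : Finset (Fin n)) (hS : S.card = D) :
    Fintype.card {e : Fin n → Fin (2 * m + 1) // ((∀ i, 1 ≤ (e i : ℕ)) ∧ ∑ i, (e i : ℕ) = s) ∧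
        (univ.filter fun i => 2 * (e i : ℕ) < 2 * m + 1) = S} =
      ∑ j ∈ range (s + 1), cnt D m j * cnt (n - D) m (s - j - (n - D) * m) := by
  classical
  have hSc : Fintype.card {i : Fin n // i ∈ S} = D := by simpa using hS
  have hSc' : Fintype.card {i : Fin n // i ∉ S} = n - D := by
    rw [Fintype.card_subtype_compl, hSc, Fintype.card_fin]
  let τ : Fin D ⊕ Fin (n - D) ≃ Fin n :=
    (Equiv.sumCongr (Fintype.equivFinOfCardEq hSc).symm (Fintype.equivFinOfCardEq hSc').symm).trans
      (Equiv.sumCompl fun i => i ∈ S)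
  have hl : ∀ i, τ (.inl i) ∈ S := fun i => ((Fintype.equivFinOfCardEq hSc).symm i).2
  have hr : ∀ i, τ (.inr i) ∉ S := fun i => ((Fintype.equivFinOfCardEq hSc').symm i).2
  let Q := {ab : (Fin D → Fin (m + 1)) × (Fin (n - D) → Fin (m + 1)) //
      ((∀ i, 1 ≤ (ab.1 i : ℕ)) ∧ ∀ i, 1 ≤ (ab.2 i : ℕ)) ∧
        ∑ i, (ab.1 i : ℕ) + (∑ i, (ab.2 i : ℕ) + (n - D) * m) = s}
  have hsplit : ∀ g : Fin n → ℕ, ∑ i, g i = ∑ i, g (τ (.inl i)) + ∑ i, g (τ (.inr i)) := fun g => by
    rw [← τ.sum_comp g, Fintype.sum_sum_type]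
  have hsum : ∀ b : Fin (n - D) → ℕ, ∑ i, (m + b i) = ∑ i, b i + (n - D) * m := fun b => by
    rw [Finset.sum_add_distrib, Finset.sum_const, card_univ, Fintype.card_fin, smul_eq_mul,
      add_comm]
  have e1 : Fintype.card {e : Fin n → Fin (2 * m + 1) //
      ((∀ i, 1 ≤ (e i : ℕ)) ∧ ∑ i, (e i : ℕ) = s) ∧
        (univ.filter fun i => 2 * (e i : ℕ) < 2 * m + 1) = S} = Fintype.card Q := by
    let f : Q → Fin n → Fin (2 * m + 1) := fun ab i =>
      Sum.elim (fun x => (⟨(ab.1.1 x : ℕ), by omega⟩ : Fin (2 * m + 1)))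
        (fun x => ⟨m + (ab.1.2 x : ℕ), by omega⟩) (τ.symm i)
    have hf : ∀ ab : Q, ((∀ i, 1 ≤ (f ab i : ℕ)) ∧ ∑ i, (f ab i : ℕ) = s) ∧
        (univ.filter fun i => 2 * (f ab i : ℕ) < 2 * m + 1) = S := by
      intro ab
      simp only [f]
      obtain ⟨⟨a, b⟩, ⟨ha, hb⟩, hab⟩ := ab
      refine ⟨⟨fun i => ?_, ?_⟩, ?_⟩
      · obtain ⟨x | x, rfl⟩ := τ.surjective i
        · simpa using ha x
        · simp only [Equiv.symm_apply_apply, Sum.elim_inr]
          have := hb x
          simp only at this ⊢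
          omega
      · rw [hsplit]
        simp only [Equiv.symm_apply_apply, Sum.elim_inl, Sum.elim_inr]
        rw [hsum]
        exact hab
      · ext i
        obtain ⟨x | x, rfl⟩ := τ.surjective i
        · simp only [mem_filter, mem_univ, true_and, Equiv.symm_apply_apply, Sum.elim_inl, hl x,
            iff_true]
          omega
        · simp only [mem_filter, mem_univ, true_and, Equiv.symm_apply_apply, Sum.elim_inr, hr x,
            iff_false]
          have := hb x
          simp only at this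
          omega
    refine (Fintype.card_congr (Equiv.ofBijective (fun ab : Q => ⟨f ab, hf ab⟩) ⟨?_, ?_⟩)).symm
    · rintro ⟨⟨a, b⟩, h⟩ ⟨⟨a', b'⟩, h'⟩ heq
      simp only [Subtype.mk.injEq, f] at heq
      refine Subtype.ext (Prod.ext (funext fun x => Fin.ext ?_) (funext fun x => Fin.ext ?_))
      · simpa using congrArg Fin.val (congrFun heq (τ (.inl x)))
      · simpa using congrArg Fin.val (congrFun heq (τ (.inr x)))
    · rintro ⟨e, ⟨he1, he2⟩, heS⟩
      have hsmall : ∀ x, (e (τ (.inl x)) : ℕ) ≤ m := fun x => by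
        have : τ (.inl x) ∈ univ.filter fun i => 2 * (e i : ℕ) < 2 * m + 1 := heS ▸ hl x
        simp only [mem_filter] at this
        omega
      have hlarge : ∀ x, m < (e (τ (.inr x)) : ℕ) := fun x => by
        have : τ (.inr x) ∉ univ.filter fun i => 2 * (e i : ℕ) < 2 * m + 1 := heS ▸ hr x
        simp only [mem_filter, mem_univ, true_and] at this
        omega
      refine ⟨⟨(fun x => ⟨(e (τ (.inl x)) : ℕ), by have := hsmall x; omega⟩,
        fun x => ⟨(e (τ (.inr x)) : ℕ) - m, by have := hlarge x; omega⟩),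
        ⟨fun x => he1 _, fun x => ?_⟩, ?_⟩, ?_⟩
      · have := hlarge x
        simp only
        omega
      · simp only
        rw [← hsum, ← he2, hsplit (fun i => (e i : ℕ))]
        congr 1
        exact sum_congr rfl fun x _ => by have := hlarge x; omega
      · refine Subtype.ext (funext fun i => ?_)
        simp only [f]
        obtain ⟨x | x, rfl⟩ := τ.surjective i <;> refine Fin.ext ?_
        · simp
        · simp only [Equiv.symm_apply_apply, Sum.elim_inr]
          have := hlarge x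
          omega
  rw [e1]
  have e2 : Fintype.card Q = ∑ j ∈ range (s + 1),
      (univ.filter fun q : Q => ∑ i, (q.1.1 i : ℕ) = j).card := by
    rw [← card_univ]
    refine card_eq_sum_card_fiberwise fun q _ => ?_
    have := q.2.2
    simp only [coe_range, Set.mem_Iio]
    omega
  rw [e2]
  refine sum_congr rfl fun j hj => ?_
  rw [mem_range] at hj
  rcases lt_or_ge (s - j) ((n - D) * m) with hlt | hge
  · have hk : 0 < n - D := Nat.pos_of_ne_zero fun h => by rw [h] at hlt; omega
    rw [show s - j - (n - D) * m = 0 by omega, cnt_eq_zero hk, mul_zero, card_eq_zero,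
      filter_eq_empty_iff]
    intro q _ h
    have := q.2.2
    omega
  · rw [← Fintype.card_subtype, cnt, cnt, ← Fintype.card_prod]
    refine Fintype.card_congr
      { toFun := fun q => (⟨q.1.1.1, q.1.2.1.1, q.2⟩, ⟨q.1.1.2, q.1.2.1.2, by
          have := q.1.2.2; have := q.2; omega⟩)
        invFun := fun ab => ⟨⟨(ab.1.1, ab.2.1), ⟨ab.1.2.1, ab.2.2.1⟩, by
          have := ab.1.2.2; have := ab.2.2.2; simp only; omega⟩, ab.1.2.2⟩
        left_inv := fun q => rfl
        right_inv := fun ab => rfl }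

theorem main (p n s D : ℕ) (hp : Odd p) :
    Fintype.card {e : Fin n → Fin p // (∀ i, 1 ≤ (e i : ℕ)) ∧ ∑ i, (e i : ℕ) = s ∧
        (Finset.univ.filter fun i => 2 * (e i : ℕ) < p).card = D} =
      n.choose D * ∑ j ∈ Finset.range (s + 1),
        Fintype.card {e : Fin D → Fin ((p + 1) / 2) // (∀ i, 1 ≤ (e i : ℕ)) ∧ ∑ i, (e i : ℕ) = j} *
          Fintype.card {e : Fin (n - D) → Fin ((p + 1) / 2) // (∀ i, 1 ≤ (e i : ℕ)) ∧ ∑ i, (e i : ℕ) = (s - j - (n - D) * ((p - 1) / 2))} := by
  classical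
  obtain ⟨m, rfl⟩ := hp
  have hh : (2 * m + 1 + 1) / 2 = m + 1 := by omega
  have hh' : (2 * m + 1 - 1) / 2 = m := by omega
  rw [hh, hh']
  show _ = n.choose D * ∑ j ∈ range (s + 1), cnt D m j * cnt (n - D) m (s - j - (n - D) * m)
  let P := {e : Fin n → Fin (2 * m + 1) // (∀ i, 1 ≤ (e i : ℕ)) ∧ ∑ i, (e i : ℕ) = s ∧
      (Finset.univ.filter fun i => 2 * (e i : ℕ) < 2 * m + 1).card = D}
  let F : P → Finset (Fin n) := fun e => univ.filter fun i => 2 * (e.1 i : ℕ) < 2 * m + 1
  calc Fintype.card P = ∑ S ∈ (univ : Finset (Fin n)).powersetCard D,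
        (univ.filter fun e : P => F e = S).card := by
        rw [← card_univ]
        exact card_eq_sum_card_fiberwise fun e _ => mem_powersetCard.2 ⟨subset_univ _, e.2.2.2⟩
    _ = ∑ S ∈ (univ : Finset (Fin n)).powersetCard D,
        ∑ j ∈ range (s + 1), cnt D m j * cnt (n - D) m (s - j - (n - D) * m) := by
        refine sum_congr rfl fun S hS => ?_
        rw [← fibre_card m n s D S (mem_powersetCard.1 hS).2, ← Fintype.card_subtype]
        exact Fintype.card_congr
          { toFun := fun e => ⟨e.1.1, ⟨e.1.2.1, e.1.2.2.1⟩, e.2⟩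
            invFun := fun e => ⟨⟨e.1, e.2.1.1, e.2.1.2, by
              rw [e.2.2]; exact (mem_powersetCard.1 hS).2⟩, e.2.2⟩
            left_inv := fun e => rfl
            right_inv := fun e => rfl }
    _ = _ := by rw [sum_const, card_powersetCard, card_univ, Fintype.card_fin, smul_eq_mul]

end ExpCountLib
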